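import Mathlib
import Cfsg.Agent.OddHalf.NI3.FrameDef
import Cfsg.Agent.OddHalf.NI.Blocks
import Cfsg.Agent.OddHalf.NI.ClsFrame
import Cfsg.Agent.OddHalf.NI.CoverFrame

/-!
# (T'_3): frames with members `SL₂(3)` (port of NI/Blocks, NI/ClsFrame, NI/CoverFrame to the field with three elements)

* `sl3` : `SL₂(F) ≃ SL₂(ℤ/3)` for `|F| = 3`;
* `blocks_frame`, `frame_of_cls`, `frame_of_mem`, `frame_of_cover`.
-/

set_option autoImplicit false
set_option linter.unusedSectionVars false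
set_option linter.dupNamespace false
set_option linter.style.haveILetI false

namespace Cfsg.Agent.OddHalf.NI3.Fr

open Subgroup Cfsg
open Cfsg.Agent.OddHalf.NI

/-- `SL₂(F) ≃ SL₂(ℤ/3)` for `|F| = 3` -/
noncomputable def sl3 {F : Type*} [Field F] [Fintype F] (h : Fintype.card F = 3) :
    Matrix.SpecialLinearGroup (Fin 2) F ≃* Matrix.SpecialLinearGroup (Fin 2) (ZMod 3) :=
  let φ : ZMod 3 ≃+* F := ZMod.ringEquivOfPrime F Nat.prime_three h
  { toFun := fun x => Matrix.SpecialLinearGroup.map φ.symm.toRingHom x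
    invFun := fun x => Matrix.SpecialLinearGroup.map φ.toRingHom x
    left_inv := fun x => by
      refine Matrix.SpecialLinearGroup.ext _ _ fun i j => ?_
      exact φ.apply_symm_apply (x.1 i j)
    right_inv := fun x => by
      refine Matrix.SpecialLinearGroup.ext _ _ fun i j => ?_
      exact φ.symm_apply_apply (x.1 i j)
    map_mul' := fun x y => map_mul _ x y }

section Blk

open Blocks

variable {M N : Type*} [Group M] [Group N] {F : Type} [Field F] {m : ℕ} {c : M}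

/-- **the frame of the image of a group with blocks** -/
theorem blocks_frame [Fintype F] (B : Blocks M F m c) (hm : 0 < m) (hodd : Odd (Fintype.card F))
    (h3 : Fintype.card F = 3) (φ : M →* N) (hs : Function.Surjective φ) (hk : φ.ker ≤ center M)
    (hc : φ c ≠ 1) : Nonempty (Frame3 N (φ c)) := by
  have h2 := two_ne_zero_of_odd hodd
  have hinj := B.injective φ hk
  have hyy : ∀ i, B.e i (negOne F) * B.e i (negOne F) = 1 := fun i => by rw [← map_mul, negOne_mul, map_one]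
  refine ⟨{
    m := m
    pos := hm
    J := fun i => (φ.comp (B.e i)).range
    y := fun i => φ (B.e i (negOne F))
    iso := fun i => ⟨(MonoidHom.ofInjective (hinj i)).symm.trans (sl3 h3)⟩
    mem := fun i => ⟨negOne F, rfl⟩
    ord := fun i => by
      have := orderOf_injective (φ.comp (B.e i)) (hinj i) (negOne F)
      rw [orderOf_negOne h2] at this
      exact this
    le := ?_
    sub := fun i => B.subnormal φ hs hk i
    comm := ?_
    inj := ?_
    three := ?_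
    gen := ?_ }⟩
  · rintro i _ ⟨a, rfl⟩
    rw [mem_centralizer_singleton_iff]
    simp only [MonoidHom.comp_apply]
    rw [← map_mul, ← map_mul, ← map_mul, ← map_mul]
    congr 2
    apply Subtype.ext
    simp
  · rintro i j hij _ ⟨a, rfl⟩ _ ⟨b, rfl⟩
    simp only [MonoidHom.comp_apply]
    rw [← map_mul, ← map_mul, B.comm i j hij]
  · intro i j hij
    by_contra hne
    apply hc
    simp only at hij
    have h1 : φ (B.e i (negOne F) * B.e j (negOne F)) = 1 := by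
      rw [map_mul, hij, ← map_mul, hyy, map_one]
    rw [← B.two i j hne (hk (MonoidHom.mem_ker.mpr h1)), h1]
  · intro i j k hij hik hjk h
    apply hc
    have h1 : φ (B.e i (negOne F) * B.e j (negOne F) * B.e k (negOne F)) = 1 := by
      rw [map_mul, map_mul, h, ← map_mul, hyy, map_one]
    rw [← B.three i j k hij hik hjk (hk (MonoidHom.mem_ker.mpr h1)), h1]
  · have h1 : φ c ∈ (closure (Set.range fun i => B.e i (negOne F))).map φ := mem_map_of_mem φ B.gen
    rw [MonoidHom.map_closure] at h1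
    convert h1 using 2
    ext x
    constructor
    · rintro ⟨i, rfl⟩
      exact ⟨_, ⟨i, rfl⟩, rfl⟩
    · rintro ⟨_, ⟨i, rfl⟩, rfl⟩
      exact ⟨i, rfl⟩

end Blk

section ClsF

open CoxeterSystem Cfsg.Agent.ChevalleyStructure.CoxeterGeom Cfsg.Agent.Tits.Roots Cfsg.Agent.Tits.Core
  Cfsg.Agent.Tits.RootComb Cfsg.Agent.Nodes.Comb Cfsg.Agent.Nodes.Reps Cfsg.Agent.Nodes.BNOf
  Cfsg.Agent.Nodes.RGDLib Cfsg.Agent.Nodes.Chart Cfsg.Agent.Nodes.Coroot Cfsg.Agent.Nodes.Perp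
  Cfsg.Agent.Nodes.ZRel Cfsg.Agent.Nodes.Bruhat Cfsg.Agent.OddHalf.NI.FrameMin Cfsg.Agent.OddHalf.NI.ClsFrame

variable {I W Y : Type*} [Fintype I] [DecidableEq I] [Group W] [Fintype W] [Group Y] {M : CoxeterMatrix I}
  {cs : CoxeterSystem M W} {A : I → I → ℤ} {h : IsCartan M A} {p : ℕ} {T : Subgroup Y} {n : I → Y}
  {X : (I → ℤ) → Subgroup Y} {R : Set (I → ℤ)} {Z : (I → ℤ) → Subgroup Y} {z : (I → ℤ) → Y}

variable (C : Cls cs h p T n X R Z z) (tr : ∀ r ∈ R, ∀ s ∈ R, ∃ w, s = rep cs h w r)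

include C tr

/-- **The frame of a `Cls`**: any nontrivial element of `⟨z r : r ∈ R⟩` lies in a frame. -/
theorem frame_of_cls (hp : p.Prime) (hp2 : p ≠ 2) (hG : G1 cs h X = ⊤) {F : Type} [Field F] [Fintype F]
    (ho : Odd (Fintype.card F)) (hc : Fintype.card F = 3)
    (sl : ∀ r ∈ R, Nonempty (Matrix.SpecialLinearGroup (Fin 2) F ≃* ↥(Z r ⊔ Z (-r))))
    {z₀ : Y} (h0 : z₀ ∈ Subgroup.closure (z '' R)) (h1 : z₀ ≠ 1) : Nonempty (Frame3 Y z₀) := by
  classical
  have hG' : GG cs h T X = ⊤ := by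
    rw [eq_top_iff, ← hG]
    exact le_sup_right
  obtain ⟨r₀, hr₀, hz₀⟩ := ClsFrame.exists_z_ne h0 h1
  have hz1 : ∀ r ∈ R, z r ≠ 1 := fun r hr => z_ne C tr hr₀ hz₀ hr
  obtain ⟨S, hne, hSR, horth, hind, -, hgen⟩ := exists_family C hp hp2 (uniq C ho sl hz1) (len C tr) h0 h1
  let e : Fin S.card ≃ S := S.equivFin.symm
  have hR : ∀ i, (e i : I → ℤ) ∈ R := fun i => hSR _ (e i).2
  have hdist : ∀ r ∈ S, ∀ s ∈ S, r ≠ s → z r ≠ z s := by
    intro r hr s hs hrs h2
    apply hind r hr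
    rw [h2]
    exact Subgroup.subset_closure ⟨s, ⟨hs, fun h3 => hrs (Set.mem_singleton_iff.1 h3).symm⟩, rfl⟩
  have hthree : ∀ r ∈ S, ∀ s ∈ S, ∀ t ∈ S, r ≠ t → s ≠ t → z r * z s ≠ z t := by
    intro r hr s hs t ht hrt hst h2
    apply hind t ht
    rw [← h2]
    exact mul_mem (Subgroup.subset_closure ⟨r, ⟨hr, fun h3 => hrt (Set.mem_singleton_iff.1 h3)⟩, rfl⟩)
      (Subgroup.subset_closure ⟨s, ⟨hs, fun h3 => hst (Set.mem_singleton_iff.1 h3)⟩, rfl⟩)
  have hval : ∀ i j, i ≠ j → (e i : I → ℤ) ≠ e j := fun i j hij h2 => hij (e.injective (Subtype.ext h2))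
  refine ⟨{ m := S.card, pos := hne.card_pos, J := fun i => Z (e i) ⊔ Z (-(e i : I → ℤ)),
            y := fun i => z (e i), iso := ?_, mem := ?_, ord := ?_, le := ?_,
            sub := ?_, comm := ?_, inj := ?_, three := ?_, gen := ?_ }⟩
  · intro i
    obtain ⟨φ⟩ := sl _ (hR i)
    exact ⟨φ.symm.trans (sl3 hc)⟩
  · exact fun i => C.z_mem _ (hR i)
  · intro i
    refine orderOf_eq_prime ?_ (hz1 _ (hR i))
    rw [pow_two]; exact C.z_sq _ (hR i)
  · exact fun i => ClsFrame.le_centralizer C (hR i)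
  · exact fun i => subnormal C (hp.odd_of_ne_two hp2) hG' (hR i)
  · intro i j hij
    exact (cm_iff C hp hp2 (hR i) (hR j)).2 (horth _ (e i).2 _ (e j).2 (hval i j hij))
  · intro i j hij
    by_contra h2
    exact hdist _ (e i).2 _ (e j).2 (hval i j h2) hij
  · intro i j k _ hik hjk
    exact hthree _ (e i).2 _ (e j).2 _ (e k).2 (hval i k hik) (hval j k hjk)
  · refine Subgroup.closure_mono ?_ hgen
    rintro _ ⟨r, hr, rfl⟩
    exact ⟨e.symm ⟨r, hr⟩, by simp⟩

end ClsF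

section Cov

open CoxeterSystem Cfsg.Agent.ChevalleyStructure.CoxeterGeom Cfsg.Agent.Tits.Roots Cfsg.Agent.Tits.Core
  Cfsg.Agent.Tits.RootComb Cfsg.Agent.Nodes.Comb Cfsg.Agent.Nodes.Reps Cfsg.Agent.Nodes.BNOf
  Cfsg.Agent.Nodes.RGDLib Cfsg.Agent.Nodes.Chart Cfsg.Agent.Nodes.RGDLift Cfsg.Agent.OddHalf.NI.CoverFrame
open Matrix (SpecialLinearGroup)

section Main

variable {I W L M N : Type*} [Fintype I] [DecidableEq I] [Group W] [Fintype W] [Group L] [Group M] [Finite M]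
  [Group N] {Mx : CoxeterMatrix I}
  {cs : CoxeterSystem Mx W} {A : I → I → ℤ} {h : IsCartan Mx A} {p : ℕ} {T : Subgroup L} {n : I → L}
  {X : (I → ℤ) → Subgroup L} {R : Set (I → ℤ)} {Z : (I → ℤ) → Subgroup L} {z : (I → ℤ) → L}

variable (C : Cls cs h p T n X R Z z) (tr : ∀ r ∈ R, ∀ s ∈ R, ∃ w, s = rep cs h w r)
  (hp : p.Prime) (hp2 : p ≠ 2)
  {F : Type} [Field F] [Fintype F] (ho : Odd (Fintype.card F)) (hc : Fintype.card F = 3)
  (sl : ∀ r ∈ R, Nonempty (SpecialLinearGroup (Fin 2) F ≃* ↥(Z r ⊔ Z (-r))))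
  {α : M →* L} (hα : Function.Surjective α) (hαc : α.ker ≤ Subgroup.center M) (hα2 : IsPGroup 2 α.ker)
  (hM : G1 cs h (fun x => lft p α (X x)) = ⊤)
  {φ : M →* N} (hφ : Function.Surjective φ) (hφc : φ.ker ≤ Subgroup.center M)

include C tr hp hp2 ho hc sl hα hαc hα2 hM hφ hφc

/-- **Frames in covers, first form.** There are lifts `z_M r` with `z_M r ∈ ⟨Z̃ r, Z̃ (-r)⟩` such that `N` has a frame for
every nontrivial `φ m`, `m ∈ ⟨z_M r : r ∈ R⟩`. -/
theorem frame_of_mem {nM : I → M} (hn : ∀ i, α (nM i) = n i) :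
    ∃ zM : (I → ℤ) → M, Cls cs h p (T.comap α) nM (fun x => lft p α (X x)) R (fun x => lft p α (Z x)) zM ∧
      (∀ r ∈ R, α (zM r) = z r) ∧
      ∀ m ∈ Subgroup.closure (zM '' R), φ m ≠ 1 → Nonempty (Frame3 N (φ m)) := by
  haveI : Fact p.Prime := ⟨hp⟩
  have hF : (2 : F) ≠ 0 := LongSL.two_ne_of_odd ho
  have hk := coprime_ker hα2 hp hp2
  have hinj : ∀ r ∈ R, ∀ y ∈ lft p α (Z r) ⊔ lft p α (Z (-r)), α y = 1 → y = 1 := by
    intro r hr y hy h1
    obtain ⟨e⟩ := sl r hr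
    exact inj_lift hp2 hαc hα2 (Nodes.ClsMap.isPGroup_Z C hr)
      (Nodes.ClsMap.isPGroup_Z C (Nodes.ClsMap.neg_mem C hr)) hF e hy h1
  obtain ⟨zM, CM, hzM⟩ := Nodes.ClsLift.cls_lift hαc hk hα C hn hinj
  refine ⟨zM, CM, hzM, ?_⟩
  intro m hm hm1
  -- the members of `M`
  have slM : ∀ r ∈ R, Nonempty (SpecialLinearGroup (Fin 2) F ≃* ↥(lft p α (Z r) ⊔ lft p α (Z (-r)))) := by
    intro r hr
    obtain ⟨e⟩ := sl r hr
    have hZr := Nodes.ClsMap.isPGroup_Z C hr
    have hZr' := Nodes.ClsMap.isPGroup_Z C (Nodes.ClsMap.neg_mem C hr)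
    have hmap : (lft p α (Z r) ⊔ lft p α (Z (-r))).map α = Z r ⊔ Z (-r) := by
      rw [Subgroup.map_sup, map_lft hαc hk hα hZr, map_lft hαc hk hα hZr']
    let g : ↥(lft p α (Z r) ⊔ lft p α (Z (-r))) →* L := α.comp (Subgroup.subtype _)
    have hg : Function.Injective g := by
      rw [injective_iff_map_eq_one]
      intro y hy
      exact Subtype.ext (hinj r hr y.1 y.2 hy)
    have hr' : g.range = Z r ⊔ Z (-r) := by
      rw [MonoidHom.range_comp, Subgroup.range_subtype, hmap]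
    exact ⟨(e.trans (MulEquiv.subgroupCongr hr'.symm)).trans (MonoidHom.ofInjective hg).symm⟩
  -- the image in `N`
  have CN := Nodes.ClsMap.cls_map_of_ker_le_center CM φ hφc
  have hGN : G1 cs h (fun x => (lft p α (X x)).map φ) = ⊤ := by
    rw [← G1_map, hM, Subgroup.map_top_of_surjective φ hφ]
  have hz0 : φ m ∈ Subgroup.closure ((fun x => φ (zM x)) '' R) := by
    have h1 := Subgroup.mem_map_of_mem φ hm
    rw [MonoidHom.map_closure, ← Set.image_comp] at h1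
    exact h1
  obtain ⟨r₀, hr₀, hz₀⟩ := ClsFrame.exists_z_ne hz0 hm1
  have hz1 : ∀ r ∈ R, φ (zM r) ≠ 1 := fun r hr => ClsFrame.z_ne CN tr hr₀ hz₀ hr
  refine frame_of_cls CN tr hp hp2 hGN ho hc ?_ hz0 hm1
  intro r hr
  obtain ⟨e⟩ := slM r hr
  let g : SpecialLinearGroup (Fin 2) F →* N := (φ.comp (Subgroup.subtype _)).comp e.toMonoidHom
  have hg1 : ∀ s, g s = φ ((e s : ↥(lft p α (Z r) ⊔ lft p α (Z (-r)))) : M) := fun _ => rfl
  have hg : Function.Injective g := by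
    rw [injective_iff_map_eq_one]
    intro s hs
    -- `s` is central, hence `± 1`
    have h1 : ((e s : ↥(lft p α (Z r) ⊔ lft p α (Z (-r)))) : M) ∈ Subgroup.center M := hφc hs
    have h2 : s ∈ Subgroup.center (SpecialLinearGroup (Fin 2) F) := by
      rw [Subgroup.mem_center_iff]
      intro t
      apply e.injective
      apply Subtype.ext
      rw [map_mul, map_mul]
      exact Subgroup.mem_center_iff.1 h1 _
    have h3 : s = 1 ∨ s = -1 := CovTwo.mem_center_sl ho h2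
    rcases h3 with h3 | h3
    · exact h3
    · exfalso
      have h4 : (e s : ↥(lft p α (Z r) ⊔ lft p α (Z (-r)))) = ⟨zM r, CM.z_mem r hr⟩ := by
        have h5 : zM r ≠ 1 := fun h6 => hz1 r hr (by rw [h6, map_one])
        have h6 := Lib.PSL2Inv.sq_eq_one hF (x := e.symm ⟨zM r, CM.z_mem r hr⟩) (by
          rw [← map_mul]
          have : (⟨zM r, CM.z_mem r hr⟩ * ⟨zM r, CM.z_mem r hr⟩ : ↥(lft p α (Z r) ⊔ lft p α (Z (-r)))) = 1 :=
            Subtype.ext (CM.z_sq r hr)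
          rw [this, map_one])
        rcases h6 with h6 | h6
        · exfalso
          apply h5
          have h7 : (⟨zM r, CM.z_mem r hr⟩ : ↥(lft p α (Z r) ⊔ lft p α (Z (-r)))) = 1 := by
            rw [← e.apply_symm_apply ⟨zM r, CM.z_mem r hr⟩, h6, map_one]
          exact congrArg Subtype.val h7
        · rw [h3, ← h6, e.apply_symm_apply]
      apply hz1 r hr
      rw [hg1, h4] at hs
      exact hs
  have hr' : g.range = (lft p α (Z r)).map φ ⊔ (lft p α (Z (-r))).map φ := by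
    rw [← Subgroup.map_sup, MonoidHom.range_comp, MonoidHom.range_eq_top.2 e.surjective]
    rw [← MonoidHom.range_eq_map, MonoidHom.range_comp, Subgroup.range_subtype]
  exact ⟨(MonoidHom.ofInjective hg).trans (MulEquiv.subgroupCongr hr')⟩

/-- **Frames in covers, second form**: `z₀ = φ (Th t)`, `t ^ 2 = 1`, for a torus parametrisation
`Th : ∏ Fᵢ^× →* M` with `Th (mulSingle i (-1)) = s' i (-1)`, `s' i : SL(2, Fᵢ) →* M`. -/
theorem frame_of_cover {Fi : I → Type} [∀ i, Field (Fi i)] (s' : ∀ i, SpecialLinearGroup (Fin 2) (Fi i) →* M)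
    (Th : (∀ i, (Fi i)ˣ) →* M) (hTh : ∀ i, Th (Pi.mulSingle i (-1)) = s' i (-1))
    (hup : ∀ i, s' i (InvClosure.u1 (Fi i)) ∈ lft p α (X (sr i)))
    (hlo : ∀ i, s' i (InvClosure.l1 (Fi i)) ∈ lft p α (X (-sr i)))
    (hw : ∀ i, ∃ t ∈ T, α (s' i (InvClosure.w1 (Fi i))) = t * n i)
    (lnk : ∀ i, ∃ r ∈ R, r ≠ sr i ∧ r ≠ -sr i ∧ form cs h (sr i) r ≠ 0)
    {t : ∀ i, (Fi i)ˣ} (ht : t ^ 2 = 1) (h1 : φ (Th t) ≠ 1) : Nonempty (Frame3 N (φ (Th t))) := by
  have hn : ∃ nM : I → M, ∀ i, α (nM i) = n i := ⟨fun i => (hα (n i)).choose, fun i => (hα (n i)).choose_spec⟩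
  obtain ⟨nM, hn⟩ := hn
  obtain ⟨zM, CM, -, hfr⟩ := frame_of_mem C tr hp hp2 ho hc sl hα hαc hα2 hM hφ hφc hn
  refine hfr _ ?_ h1
  refine InvClosure.pm_mem Th (fun i => ?_) ht
  rw [hTh]
  refine InvClosure.neg_one_mem CM (s' i) (hup i) (hlo i) ?_ (lnk i)
  obtain ⟨t, ht, e⟩ := hw i
  refine ⟨s' i (InvClosure.w1 (Fi i)) * (nM i)⁻¹, ?_, by group⟩
  rw [Subgroup.mem_comap, map_mul, map_inv, e, hn, mul_inv_cancel_right]
  exact ht

end Main

end Cov

end Cfsg.Agent.OddHalf.NI3.Fr
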