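import Mathlib
import Cfsg.Agent.OddHalf.NI3.Fr.Core
import Cfsg.Agent.OddHalf.NI.ExcEnd

/-!
# (T'_3) for `E₇(3)` (port of NI/ExcEnd)
-/

set_option autoImplicit false
set_option linter.unusedSectionVars false

namespace Cfsg.Agent.OddHalf.NI3.Fr

open Cfsg.Agent.OddHalf.NI Cfsg.Agent.OddHalf.NI.ExcEnd

open CoxeterSystem Cfsg.Agent.ChevalleyStructure.CoxeterGeom Cfsg.Agent.Tits.Roots Cfsg.Agent.Tits.Core
  Cfsg.Agent.Tits.RootComb Cfsg.Agent.Nodes.Comb Cfsg.Agent.Nodes.Reps Cfsg.Agent.Nodes.BNOf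
  Cfsg.Agent.Nodes.RGDLib Cfsg.Agent.Nodes.Chart Cfsg.Agent.Nodes.Coroot Cfsg.Agent.Nodes.ClsInv
  Cfsg.Agent.Nodes.KindBase Cfsg.Agent.Nodes.KindChev Cfsg.Agent.Nodes.ChevCls Cfsg.Agent.Nodes.ChevChart
open Cfsg.Lie Cfsg.Agent.ChevalleyStructure Cfsg.Agent.ChevalleyStructure.Elts
  Cfsg.Agent.ChevalleyStructure.NPerm Cfsg.Agent.ChevalleyStructure.CoxeterGeomTypes Cfsg.Agent.Nodes.RGDChev
  Cfsg.Agent.KFacts.RgdChevCoord Cfsg.Agent.OddHalf.NI.ModelChev
open Cfsg.Agent.FixBN.FieldRGD (uu vv dd ww)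
open Subgroup (center)
open scoped MatrixGroups

universe u v


section Cover

variable {N : Type v} [Group N]

/-- The frame, if the solutions of `th t = 1` are `± 1`. -/
theorem exc_frame_of {D : ChevalleyDatum} {l : ℕ} {M : CoxeterMatrix (Fin l)} (hp : IsType D l M) {K : Type} [Field K]
    [Fintype K] (ho : Odd (Fintype.card K)) (hc : Fintype.card K = 3) {f : ℕ} {Nn : ℤ} {d : Fin l → ℤ}
    {fr cf : Fin f → Fin l → ℤ} {idx : Fin f → ℕ} (T : KD D l f Nn d fr cf idx) (k₀ : Fin f)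
    (hd : ∀ i, 0 < d i ∧ 2 * d i ≤ Nn)
    (hL : ∀ s < D.nroots, (∀ i, vec D l s i = fr k₀ i) ∨ (∀ i, vec D l s i = -fr k₀ i) ∨
      |∑ i, vec D l s i * cf k₀ i| ≤ 1) (hZ : Subgroup.center ↥(D.group K) = ⊥)
    {i₀ j₀ : Fin l} (hij : cartanOf D l i₀ j₀ = -1) (hi₀ : 2 * d i₀ = Nn)
    (hlnk : ∀ i, ∃ j, j ≠ i ∧ cartanOf D l i j ≠ 0 ∧ 2 * d j = Nn)
    (hker : ∀ t : Fin l → Kˣ, th hp t = 1 → ∀ i, t i ^ 2 = 1)
    {N : Type v} [Group N] [Finite N] (hN : commutator N = ⊤) (h2 : IsPGroup 2 ↥(center N))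
    (e : N ⧸ center N ≃* ↥(D.group K)) {z : N} (hz : z ∈ center N) (hz1 : z ≠ 1) : Nonempty (Frame3 N z) := by
  obtain ⟨p, hpp, hpc, hp2⟩ := exists_char K ho
  have : Fact p.Prime := ⟨hpp⟩
  have : Finite M.Group := finite_W hp M.toCoxeterSystem
  let _ : Fintype M.Group := Fintype.ofFinite _
  have R := rgd (K := K) hp M.toCoxeterSystem p
  have C := Nodes.ChevCls.cls hp (K := K) M.toCoxeterSystem p T k₀ hd hL hZ
  have hsur := cov_surjective e
  have hck : (cov e).ker ≤ center N := (ker_cov e).le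
  have h2' : IsPGroup 2 (cov e).ker := by rw [ker_cov]; exact h2
  obtain ⟨s', θ', h3, h4, h5, h6, h7, h8, -⟩ := Mult.mult hp2 R (G1_eq_top hp M.toCoxeterSystem) (coord hp) (th hp)
    (th_dg hp) hsur hck h2' hN
  have hze : cov e z = 1 := by
    rw [← MonoidHom.mem_ker, ker_cov]; exact hz
  have h9 : z ∈ θ'.range := by
    rw [h6, Subgroup.mem_comap, hze]
    exact one_mem _
  obtain ⟨t, rfl⟩ := h9
  have ht : th hp t = 1 := by
    rw [← h5]
    exact hze
  have hw : ∀ i, ∃ t ∈ TT D K, cov e (s' i (InvClosure.w1 K)) = t * nc hp K i := by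
    intro i
    refine ⟨1, one_mem _, ?_⟩
    have e1 : cov e (s' i (InvClosure.w1 K)) = sl hp i (InvClosure.w1 K) := DFunLike.congr_fun (h3 i) _
    have e2 : (InvClosure.w1 K : SL(2, K)) = ww 1 one_ne_zero := by
      apply Subtype.ext
      show !![(0 : K), 1; -1, 0] = !![0, 1; -(1 : K)⁻¹, 0]
      rw [inv_one]
    rw [e1, e2, sl_ww, one_mul]
  exact Fr.frame_of_cover (Fi := fun _ => K) C
    (fun r hr s hs => by
      obtain ⟨w, hw⟩ := T.trans (cs := M.toCoxeterSystem) (h := hp.isCartan) hp hr hs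
      exact ⟨w, hw.symm⟩) hpp hp2 ho hc (fun r hr => slEquiv hp (K := K) p T hij hi₀ hr) hsur hck h2' h8
    (φ := MonoidHom.id N) (fun x => ⟨x, rfl⟩) (by rw [MonoidHom.ker_id]; exact bot_le) s' θ'
    (fun i => by rw [h4, Mult.dg_neg_one])
    (fun i => by
      have e1 := h7.up i
      have e2 : s' i (InvClosure.u1 K) ∈ Set.range fun a : K => s' i (Mult.up a) := ⟨1, rfl⟩
      rw [← e1] at e2
      exact e2)
    (fun i => by
      have e1 := h7.lo i
      have e2 : s' i (InvClosure.l1 K) ∈ Set.range fun a : K => s' i (Mult.lo a) := ⟨-1, rfl⟩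
      rw [← e1] at e2
      exact e2)
    hw
    (fun i => by
      obtain ⟨j, hji, hj, hdj⟩ := hlnk i
      have hne : (sr j : Fin l → ℤ) ≠ sr i := by
        intro h
        have := congrFun h j
        rw [sr_self, sr_ne hji] at this
        norm_num at this
      have hne' : (sr j : Fin l → ℤ) ≠ -sr i := by
        intro h
        have := congrFun h j
        rw [sr_self, Pi.neg_apply, sr_ne hji] at this
        norm_num at this
      refine ⟨sr j, ⟨isRoot_sr _ _ j, ?_⟩, hne, hne', ?_⟩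
      · have := qf_root M.toCoxeterSystem hp.isCartan T.hd 1 j
        rw [map_one, Module.End.one_apply] at this
        rw [this, hdj]
      · intro h0
        have h10 := two_form_cpr M.toCoxeterSystem hp.isCartan (sr j) (isRoot_sr M.toCoxeterSystem hp.isCartan i)
        rw [form_comm, h0, mul_zero] at h10
        have h11 := form_pos M.toCoxeterSystem hp.isCartan (isRoot_sr M.toCoxeterSystem hp.isCartan i).ne_zero
        have h12 : cpr M.toCoxeterSystem hp.isCartan (sr j) (sr i) = 0 := by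
          rcases mul_eq_zero.1 h10.symm with h | h
          · exact h
          · exact absurd h h11.ne'
        rw [cpr_sr] at h12
        apply hj
        have h13 := pairing_single (cartanOf D l) i j 1
        rw [mul_one] at h13
        rw [← h13]
        exact h12)
    (t := t) (funext fun i => hker t ht i) hz1

end Cover

section Literal

variable {F : Type} [Field F] [Fintype F] (ho : Odd (Fintype.card F)) {N : Type v} [Group N] [Finite N]
  (hq : IsQuasisimple N) (h2 : IsPGroup 2 ↥(center N)) {z : N} (hz : z ∈ center N) (hz2 : orderOf z = 2)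

include ho hq h2 hz hz2

/-- **Type `E7`.** -/
theorem frame_E7 (hc : Fintype.card F = 3) (e : N ⧸ center N ≃* ↥(chevE7.group F)) : Nonempty (Frame3 N z) := by
  obtain ⟨p, hpp, hpc, hp2⟩ := exists_char F ho
  have : Fact p.Prime := ⟨hpp⟩
  refine exc_frame_of Nodes.KindE.isType7 ho hc Nodes.KindE.kd7 0 (fun _ => ⟨by norm_num, by norm_num⟩) long7
    (center_of_mem (by simp)) (i₀ := 0) (j₀ := 2) (by decide +kernel) (by norm_num) ?_
    (fun _ h i => th_ker_E7 h i) (perf hq) h2 e hz ?_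
  · intro i
    have h : ∀ i : Fin 7, ∃ j, j ≠ i ∧ cartanOf chevE7 7 i j ≠ 0 := by decide +kernel
    obtain ⟨j, h3, h4⟩ := h i
    exact ⟨j, h3, h4, by norm_num⟩
  · rintro rfl
    rw [orderOf_one] at hz2
    norm_num at hz2

end Literal

end Cfsg.Agent.OddHalf.NI3.Fr
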