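import Mathlib
import Cfsg.Agent.OddHalf.NI3.Fr.Core
import Cfsg.Agent.OddHalf.NI.SUOdd
import Cfsg.Agent.OddHalf.NI.ClosedSL
import Cfsg.Agent.OddHalf.NI.CoverOf
import Cfsg.Agent.OddHalf.NI.FrameSU
import Cfsg.Agent.OddHalf.NI.SUClosed
import Cfsg.Agent.OddHalf.NI.FrameSp

/-!
# (T'_3) for `PSL_n(3)`, `PSp_{2m}(3)`, `PSU_n(3)` (port of the rows of node NI)
-/

set_option autoImplicit false

namespace Cfsg.Agent.OddHalf.NI3.Fr

open Cfsg.Agent.OddHalf.NI

universe u v

section SL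

open Matrix Subgroup Cfsg
open Blocks (negOne)
open Cfsg.Agent.OddHalf.NI.FrameSL

variable {F : Type} [Field F] {m : ℕ}

/-- **(T') for type `A_n`** : `φ : SL_n(F) → N` surjective with central kernel, `z` an even central involution of `N`:
there is a frame for `z`. -/
theorem frame_sl [Fintype F] (hodd : Odd (Fintype.card F)) (h3 : Fintype.card F = 3) {n : ℕ} (hn : 3 ≤ n)
    {N : Type*} [Group N] (φ : Matrix.SpecialLinearGroup (Fin n) F →* N) (hs : Function.Surjective φ)
    (hk : φ.ker ≤ center (Matrix.SpecialLinearGroup (Fin n) F)) {z : N} (hz : z ∈ center N) (h8 : Even8 z) :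
    Nonempty (Frame3 N z) := by
  obtain ⟨ho, u, x, hu, -, hux⟩ := h8
  have hz1 : z ≠ 1 := by
    rintro rfl
    rw [orderOf_one] at ho
    omega
  have h2 : (2 : F) ≠ 0 := Blocks.two_ne_zero_of_odd hodd
  obtain ⟨c, hc, rfl, hev⟩ := LinEnd.sl_main φ hs hk (Cfsg.Agent.S0248.result n hn) hz hux (hu ▸ hz) hz1
  obtain ⟨m, hm⟩ := hev h2
  rw [Fintype.card_fin] at hm
  let f : Fin 2 × Fin m ≃ Fin n := finProdFinEquiv.trans (finCongr (by omega))
  let ψ : Matrix.SpecialLinearGroup (Fin 2 × Fin m) F →* N := φ.comp (reidx f).toMonoidHom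
  have hψs : Function.Surjective ψ := hs.comp (reidx f).surjective
  have hψk : ψ.ker ≤ center (Matrix.SpecialLinearGroup (Fin 2 × Fin m) F) := by
    intro g hg
    have h4 : reidx f g ∈ center (Matrix.SpecialLinearGroup (Fin n) F) := hk hg
    rw [mem_center_iff] at h4 ⊢
    intro y
    apply (reidx f).injective
    rw [map_mul, map_mul]
    exact h4 _
  have hcc : reidx f (neg m F) = c := by
    apply Subtype.ext
    change reindex f f (neg m F : Matrix (Fin 2 × Fin m) (Fin 2 × Fin m) F) = (c : Matrix (Fin n) (Fin n) F)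
    rw [neg_coe, hc]
    ext i j
    simp [Matrix.one_apply]
  have hψc : ψ (neg m F) = φ c := by
    change φ (reidx f (neg m F)) = φ c
    rw [hcc]
  have := blocks_frame (blocks (F := F) h2 (show 2 ≤ m by omega)) (by omega) hodd h3 ψ hψs hψk (by rw [hψc]; exact hz1)
  rw [hψc] at this
  exact this

end SL

section PSL

open Matrix Subgroup Cfsg

/-- **(T') for `N / Z(N) ≅ PSL_n(F)`**, `|F| = 3`, `n ≥ 3`. -/
theorem frame_psl {N : Type u} [Group N] [Finite N] (hq : Cfsg.IsQuasisimple N) (h2 : IsPGroup 2 ↥(center N))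
    {F : Type} [Field F] [Fintype F] (hodd : Odd (Fintype.card F)) (h3 : Fintype.card F = 3) {n : ℕ}
    (hn : 3 ≤ n) (e : N ⧸ center N ≃* Matrix.ProjectiveSpecialLinearGroup (Fin n) F) {z : N}
    (hz : z ∈ center N) (h8 : Even8 z) : Nonempty (Frame3 N z) := by
  obtain ⟨φ, hs, hk⟩ := CoverOf.exists_cover hq.1.commutator_eq_top h2 (Cfsg.Agent.S0248.result n hn)
    (ClosedSL.closed hodd (by omega)) e
  exact frame_sl hodd h3 hn φ hs hk hz h8

end PSL

section Sp

open Matrix Subgroup Cfsg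
open Blocks (negOne)
open Cfsg.Agent.OddHalf.NI.FrameSp

variable {F : Type} [Field F] {m : ℕ}

/-- **(T') for type `C_n`** : `φ : Sp_{2m}(F) → N` surjective with central kernel, `z ≠ 1` central in `N`: there is a
frame for `z`. -/
theorem frame_sp [Fintype F] (hodd : Odd (Fintype.card F)) (h3 : Fintype.card F = 3) (hm : 2 ≤ m)
    {N : Type*} [Group N] (φ : symplecticGroup (Fin m) F →* N) (hs : Function.Surjective φ)
    (hk : φ.ker ≤ center (symplecticGroup (Fin m) F)) {z : N} (hz : z ∈ center N) (hz1 : z ≠ 1) :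
    Nonempty (Frame3 N z) := by
  have h2 : (2 : F) ≠ 0 := Blocks.two_ne_zero_of_odd hodd
  obtain ⟨c, rfl⟩ := hs z
  have hc : c ∈ center (symplecticGroup (Fin m) F) :=
    LinEnd.mem_center_of_map φ hk (Cfsg.Agent.S0269.result m (by omega)) hz
  rcases center_cases (by omega) hc with rfl | rfl
  · exact absurd (map_one φ) hz1
  · exact blocks_frame (blocks h2 hm) (by omega) hodd h3 φ hs hk hz1

end Sp

section SUB

open Matrix Subgroup Cfsg Cfsg.Agent.Phan
open Cfsg.Agent.LieClassical.SUBasic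
open Cfsg.Agent.OddHalf.NI.SUBlocks

variable {F : Type*} [Field F] [Fintype F] {q l n m : ℕ}

/-- **(T') for type `²A_n`** : `φ : SU_n(q) → N` surjective with central kernel, `z` an even central involution of
`N`: there is a frame for `z`. -/
theorem frame_su (hF : Fintype.card F = q ^ 2) (hodd : Odd q) (hq : q = 3) (hn : 3 ≤ n) {N : Type*} [Group N]
    (φ : SU n F q →* N) (hs : Function.Surjective φ) (hk : φ.ker ≤ center (SU n F q)) {z : N}
    (hz : z ∈ center N) (h8 : Even8 z) : Nonempty (Frame3 N z) := by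
  obtain ⟨ho, u, x, hu, -, hux⟩ := h8
  have hz1 : z ≠ 1 := by
    rintro rfl
    rw [orderOf_one] at ho
    omega
  have h2 : (2 : F) ≠ 0 := Phan.two_ne_zero_of_odd hF hodd
  obtain ⟨c, hc, rfl, hev⟩ := LinEndSU.su_main hF hn φ hs hk
    (Cfsg.Agent.LieClassical.HermPerfect.commutator_SU_eq_top hF hn (by omega)) hz hux (hu ▸ hz) hz1
  obtain ⟨m, rfl⟩ := (hev h2).two_dvd
  obtain ⟨K, _, _, hK⟩ := Cfsg.Agent.S0280.exists_field hF
  obtain ⟨σ⟩ := Cfsg.Agent.S0281.result hF hK
  have hcc : c = neg m F hF := mat_inj (by rw [mat_neg]; exact hc)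
  have hoddK : Odd (Fintype.card K) := by rw [hK]; exact hodd
  rw [hcc] at hz1 ⊢
  exact blocks_frame (blocks hF hodd (Blocks.two_ne_zero_of_odd hoddK) σ.symm (by omega)) (by omega) hoddK
    (by rw [hK]; exact hq) φ hs hk hz1

end SUB

section PSU

open Subgroup Cfsg

/-- **(T') for `N / Z(N) ≅ PSU_n(q)`**, `q = 3`, `n ≥ 3`, `SU_n(q)` without perfect central 2-extension. -/
theorem frame_psu {N : Type u} [Group N] [Finite N] (hq : Cfsg.IsQuasisimple N) (h2 : IsPGroup 2 ↥(center N))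
    {F : Type v} [Field F] [Fintype F] {q n : ℕ} (hF : Fintype.card F = q ^ 2) (hodd : Odd q) (h3 : q = 3)
    (hn : 3 ≤ n) (hcl : CoverOf.Closed2.{max u v, v} ↥(SU n F q)) (e : N ⧸ center N ≃* PSU n F q) {z : N}
    (hz : z ∈ center N) (h8 : Even8 z) : Nonempty (Frame3 N z) := by
  obtain ⟨φ, hs, hk⟩ := CoverOf.exists_cover hq.1.commutator_eq_top h2
    (Cfsg.Agent.LieClassical.HermPerfect.commutator_SU_eq_top hF hn (by omega)) hcl e
  exact frame_su hF hodd h3 hn φ hs hk hz h8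

end PSU

section SUO

open Subgroup
open Matrix Cfsg Cfsg.Agent.Phan
set_option linter.unusedSectionVars false
set_option linter.unusedVariables false
open Cfsg.Agent.LieClassical.GUOrder

variable {F : Type*} [Field F] [Fintype F] {q : ℕ}


open Cfsg.Agent.OddHalf.NI.SUOdd

/-- **`Clo (SU_k) → Clo (SU_{k+1})`, `k` even.** -/
theorem clo_succ3 (hF : Fintype.card F = q ^ 2) (ho : Odd (Fintype.card F)) (hq : q = 3) {k : ℕ} (hk : Even k)
    (hk2 : 3 ≤ k) (h : Clo.{u} (SU k F q)) : Clo.{u} (SU (k + 1) F q) := by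
  intro E _ _ f hE hf hc h2
  rw [← MonoidHom.ker_eq_bot_iff]
  obtain ⟨n, rfl⟩ : ∃ n, k = n + 1 := ⟨k - 1, by omega⟩
  -- a generator of the group of norm one scalars
  have hcyc : IsCyclic (powMonoidHom (q + 1) : Fˣ →* Fˣ).ker := inferInstance
  obtain ⟨⟨c, hc1⟩, hgen⟩ := hcyc.exists_generator
  have hcF : (c : F) ^ (q + 1) = 1 := by
    have h := MonoidHom.mem_ker.1 hc1
    rw [powMonoidHom_apply] at h
    rw [← Units.val_pow_eq_pow_val, h, Units.val_one]
  refine ker_eq_bot_of_index hf hE hc h2 (H := stab hF (n + 1)) (L := (io hF (n + 1)).range)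
    (odd_index hF ho hk (by omega)) (range_io_le hF _) ?_ (h := dia hF n c hcF) ⟨c, hcF, dia_e0 hF n _ hcF⟩ ?_
    (comm_range hF (LieClassical.HermPerfect.commutator_SU_eq_top hF hk2 (by omega))) (fun A hA hm => h.sub hc h2 (ext_injective hF _) A hA hm)
  · rintro x ⟨d, hd, hx⟩ l hl
    rw [mem_range_io] at hl ⊢
    have hx' : mat x⁻¹ *ᵥ (d • SUOdd.e0 (n + 1) F) = SUOdd.e0 (n + 1) F := by
      rw [← hx, Matrix.mulVec_mulVec, mat_inv_mul, Matrix.one_mulVec]
    have hd0 : d ≠ 0 := by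
      rintro rfl
      rw [zero_pow (Nat.succ_ne_zero q)] at hd
      exact zero_ne_one hd
    have hx2 : mat x⁻¹ *ᵥ SUOdd.e0 (n + 1) F = d⁻¹ • SUOdd.e0 (n + 1) F := by
      rw [Matrix.mulVec_smul] at hx'
      rw [← hx', smul_smul, inv_mul_cancel₀ hd0, one_smul, hx']
    rw [mat_mul, mat_mul, ← Matrix.mulVec_mulVec, ← Matrix.mulVec_mulVec, hx2, Matrix.mulVec_smul,
      Matrix.mulVec_smul, hl, hx, smul_smul, inv_mul_cancel₀ hd0, one_smul]
  · rintro x ⟨d, hd, hx⟩
    have hd0 : d ≠ 0 := by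
      rintro rfl
      rw [zero_pow (Nat.succ_ne_zero q)] at hd
      exact zero_ne_one hd
    obtain ⟨k, hk⟩ := mem_zpowers_iff.1 (hgen ⟨Units.mk0 d hd0, by
      rw [MonoidHom.mem_ker, powMonoidHom_apply]
      apply Units.ext
      simpa using hd⟩)
    have hk' : ((c ^ k : Fˣ) : F) = d := by
      have := congrArg (fun z => ((Subtype.val z : Fˣ) : F)) hk
      simpa using this
    have hpow : ∀ j : ℤ, mat (dia hF n c hcF ^ j) *ᵥ SUOdd.e0 (n + 1) F = ((c ^ j : Fˣ) : F) • SUOdd.e0 (n + 1) F := by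
      have hn : ∀ j : ℕ, mat (dia hF n c hcF ^ j) *ᵥ SUOdd.e0 (n + 1) F = ((c ^ j : Fˣ) : F) • SUOdd.e0 (n + 1) F := by
        intro j
        induction j with
        | zero => rw [pow_zero, pow_zero, mat_one, Matrix.one_mulVec, Units.val_one, one_smul]
        | succ j ih =>
          rw [pow_succ, pow_succ, mat_mul, ← Matrix.mulVec_mulVec, dia_e0, Matrix.mulVec_smul, ih, smul_smul,
            Units.val_mul, mul_comm]
      have hinv : ∀ (g : SU (n + 1 + 1) F q) (d : Fˣ), mat g *ᵥ SUOdd.e0 (n + 1) F = (d : F) • SUOdd.e0 (n + 1) F →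
          mat g⁻¹ *ᵥ SUOdd.e0 (n + 1) F = ((d⁻¹ : Fˣ) : F) • SUOdd.e0 (n + 1) F := by
        intro g d hg
        have h1 : mat g⁻¹ *ᵥ (mat g *ᵥ SUOdd.e0 (n + 1) F) = SUOdd.e0 (n + 1) F := by
          rw [Matrix.mulVec_mulVec, mat_inv_mul, Matrix.one_mulVec]
        rw [hg, Matrix.mulVec_smul] at h1
        rw [← h1, smul_smul, Units.inv_mul, one_smul, h1]
      intro j
      cases j with
      | ofNat j => rw [Int.ofNat_eq_natCast, zpow_natCast, zpow_natCast]; exact hn j
      | negSucc j => rw [zpow_negSucc, zpow_negSucc]; exact hinv _ _ (hn _)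
    refine ⟨-k, ?_⟩
    rw [mem_range_io, mat_mul, ← Matrix.mulVec_mulVec, hpow, Matrix.mulVec_smul, hx, smul_smul, ← hk',
      ← Units.val_mul, ← _root_.zpow_add, neg_add_cancel, zpow_zero, Units.val_one, one_smul]


end SUO

end Cfsg.Agent.OddHalf.NI3.Fr
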