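import Mathlib
import Cfsg.Agent.OddHalf.NI3.Fr.Core
import Cfsg.Agent.OddHalf.NI.OmegaSheet

/-!
# (T'_3) for `PΩ(V)` over the field with three elements (port of NI/OmegaSheet)
-/

set_option autoImplicit false
set_option linter.unusedSectionVars false
set_option linter.dupNamespace false

namespace Cfsg.Agent.OddHalf.NI3.Fr

open Cfsg.Agent.OddHalf.NI Cfsg.Agent.OddHalf.NI.OmegaSheet

open CoxeterSystem Cfsg.Agent.ChevalleyStructure.CoxeterGeom Cfsg.Agent.Tits.Roots Cfsg.Agent.Tits.Core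
  Cfsg.Agent.Tits.RootComb Cfsg.Agent.Nodes.Comb Cfsg.Agent.Nodes.Reps Cfsg.Agent.Nodes.BNOf
  Cfsg.Agent.Nodes.RGDLib Cfsg.Agent.Nodes.Chart Cfsg.Agent.Nodes.RGDLift Cfsg.Agent.Nodes.Bruhat
open Matrix (SpecialLinearGroup)

section Cover

variable {L : Type*} [Group L] {p : ℕ} {F : Type} [Field F] [Fintype F] (S : Sheet L p F)
  (hp : p.Prime) (hp2 : p ≠ 2) (ho : Odd (Fintype.card F)) (hc : Fintype.card F = 3)
  {M N : Type*} [Group M] [Finite M] [Group N] {α : M →* L} (hα : Function.Surjective α)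
  (hαc : α.ker ≤ Subgroup.center M) (hα2 : IsPGroup 2 α.ker) (hM : commutator M = ⊤)
  {φ : M →* N} (hφ : Function.Surjective φ) (hφc : φ.ker ≤ Subgroup.center M)

include S

include hp hp2 ho hc hα hαc hα2 hM hφ hφc

/-- the common part: `m` over the torus, all solutions of square one -/
theorem frame_of_T {m : M} (hm : α m ∈ S.T) (hk : ∀ t, S.θ t = α m → t ^ 2 = 1) (h1 : φ m ≠ 1) :
    Nonempty (Frame3 N (φ m)) := by
  have : Fact p.Prime := ⟨hp⟩
  obtain ⟨s', θ', e1, e2, e3, e4, e5, e6, -⟩ := Mult.mult hp2 S.cls.rgd S.gen S.coord S.θ S.hθ hα hαc hα2 hM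
  have hm' : m ∈ θ'.range := by
    rw [e4]
    exact hm
  obtain ⟨t, rfl⟩ := hm'
  have ht : t ^ 2 = 1 := hk t (by rw [← e3]; rfl)
  refine Fr.frame_of_cover S.cls S.tr hp hp2 ho hc S.sl hα hαc hα2 e6 hφ hφc s' θ' ?_ ?_ ?_ ?_ S.lnk ht h1
  · intro i
    rw [e2, Mult.dg_neg_one]
  · intro i
    exact e5.mem_up i 1
  · intro i
    exact e5.mem_lo i (-1)
  · intro i
    have h2 : α (s' i (InvClosure.w1 (S.Fi i))) = S.s i (Mult.nn 1) := by
      rw [← e1 i, MonoidHom.comp_apply]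
      congr 2
    have h3 := (Mult.rp_nn S.cls.rgd S.coord i 1).mul (rp_simple S.cs S.cls.rgd.nsys i).inv
    rw [mul_inv_cancel] at h3
    exact ⟨_, h3.mem_of_one, by rw [h2]; group⟩

/-- `m` in the kernel of `M → L` -/
theorem frame_ker {m : M} (hm : α m = 1) (h1 : φ m ≠ 1) : Nonempty (Frame3 N (φ m)) :=
  frame_of_T S hp hp2 ho hc hα hαc hα2 hM hφ hφc (by rw [hm]; exact one_mem _)
    (fun t ht => S.k1 t (by rw [ht, hm])) h1

/-- `m` in the centre of `M` -/
theorem frame_center (k2 : ∀ t, S.θ t ∈ Subgroup.center L → t ^ 2 = 1) {m : M}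
    (hm : m ∈ Subgroup.center M) (h1 : φ m ≠ 1) : Nonempty (Frame3 N (φ m)) := by
  have h2 : α m ∈ Subgroup.center L := by
    rw [Subgroup.mem_center_iff]
    intro y
    obtain ⟨x, rfl⟩ := hα y
    rw [← map_mul, ← map_mul, Subgroup.mem_center_iff.1 hm x]
  exact frame_of_T S hp hp2 ho hc hα hαc hα2 hM hφ hφc (center_le_T S h2)
    (fun t ht => k2 t (by rw [ht]; exact h2)) h1

end Cover

/-! ### The assembly for `PΩ(V)` -/

section POmega

open QuadraticMap
open Cfsg.Agent.LieClassical Cfsg.Agent.LieClassical.OrthCore Cfsg.Agent.LieClassical.OrthTrans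
  Cfsg.Agent.TitsThree.KSideO

variable {ι : Type} [Fintype ι] [DecidableEq ι] {F : Type} [Field F] [Fintype F] {Q : QuadraticForm F (ι → F)}

/-- **(T') for `PΩ(V)`.** -/
theorem frame_POmega (hG : Good Q) {p : ℕ} (hp : p.Prime) (hp2 : p ≠ 2) (h2 : (2 : F) ≠ 0)
    (ho : Odd (Fintype.card F)) (hc : Fintype.card F = 3) (S : Sheet ↥(E Q) p F)
    (k2 : Fintype.card ι % 4 ≠ 2 → ∀ t, S.θ t ∈ Subgroup.center ↥(E Q) → t ^ 2 = 1)
    {N : Type*} [Group N] [Finite N] (hN : commutator N = ⊤) (hZ : IsPGroup 2 ↥(Subgroup.center N))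
    (e : N ⧸ Subgroup.center N ≃* Cfsg.POmega F ⇑Q) {z : N} (hz : z ∈ Subgroup.center N) (h8 : Even8 z) :
    Nonempty (Frame3 N z) := by
  have hz1 : z ≠ 1 := by
    rintro rfl
    have := h8.1
    rw [orderOf_one] at this
    omega
  -- the two maps to `PΩ`
  obtain ⟨f, hf⟩ : ∃ f : N →* Cfsg.POmega F ⇑Q, f = e.toMonoidHom.comp (QuotientGroup.mk' _) := ⟨_, rfl⟩
  have fs : Function.Surjective f := by
    rw [hf]
    exact e.surjective.comp (QuotientGroup.mk'_surjective _)
  have fk : f.ker = Subgroup.center N := by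
    rw [hf]
    ext x
    rw [MonoidHom.mem_ker]
    change e (QuotientGroup.mk x) = 1 ↔ _
    rw [map_eq_one_iff e e.injective, QuotientGroup.eq_one_iff]
  have gs := toPOmega_surjective hG
  have gk : (toPOmega hG).ker ≤ Subgroup.center ↥(E Q) := fun x hx => center_of_toPOmega hG hx
  have hE : commutator ↥(E Q) = ⊤ := by
    apply Subgroup.map_injective (E Q).subtype_injective
    rw [commutator_def, Subgroup.map_commutator, ← MonoidHom.range_eq_map, Subgroup.range_subtype]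
    exact hG.E_perfect
  have hfin : Finite ((ι → F) ≃ₗ[F] (ι → F)) :=
    Finite.of_injective (fun g : (ι → F) ≃ₗ[F] (ι → F) => (g : (ι → F) → (ι → F))) DFunLike.coe_injective
  have hM := Fibre.perfect (f := f) (g := toPOmega hG) fs gs fk.le gk hN
  have hφ := Fibre.toN_surjective (f := f) (g := toPOmega hG) gs hN
  have hα := Fibre.toL_surjective (f := f) (g := toPOmega hG) fs hE
  have hφc := Fibre.ker_toN (f := f) (g := toPOmega hG) fk.le gk
  have hαc := Fibre.ker_toL (f := f) (g := toPOmega hG) fk.le gk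
  have hk2 : IsPGroup 2 (Fibre.toX f (toPOmega hG)).ker := Fibre.isPGroup_ker (by rw [fk]; exact hZ) (ker_two hG)
  have hα2 : IsPGroup 2 (Fibre.toL f (toPOmega hG)).ker := by
    refine hk2.to_le fun m hm => ?_
    rw [MonoidHom.mem_ker]
    change f (Fibre.toN f (toPOmega hG) m) = 1
    rw [Fibre.comm, MonoidHom.mem_ker.1 hm, map_one]
  by_cases h4 : Fintype.card ι % 4 = 2
  · -- `D_odd`
    have hmem := OmegaEnd.mem_map_ker (F := F) h2 Q ?_ ?_ ?_ ?_ (Fibre.toN f (toPOmega hG)) hφ hφc hM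
      ((toOmega hG).toMonoidHom.comp (Fibre.toL f (toPOmega hG))) ((toOmega hG).surjective.comp hα) hz h8
    · obtain ⟨m, hm, rfl⟩ := hmem
      refine frame_ker S hp hp2 ho hc hα hαc hα2 hM hφ hφc ?_ hz1
      have h3 : toOmega hG (Fibre.toL f (toPOmega hG) m) = 1 := hm
      rwa [map_eq_one_iff _ (toOmega hG).injective] at h3
    · exact LieClassical.OmegaReindex.nondegenerate_of_left _ (fun x hx => hG.nondeg x fun y => hx y)
    · have := hG.dim
      rw [Module.finrank_fintype_fun_eq_card] at this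
      omega
    · exact hG.sing
    · omega
  · -- otherwise
    obtain ⟨m, hm⟩ := hφ z
    have hmc : m ∈ Subgroup.center (Fibre.M f (toPOmega hG)) := by
      refine Fibre.mem_center_of_map fk.le gk ?_
      rw [hm]
      exact MonoidHom.mem_ker.1 (fk.ge hz)
    rw [← hm] at hz1 ⊢
    exact frame_center S hp hp2 ho hc hα hαc hα2 hM hφ hφc (k2 h4) hmc hz1

end POmega

end Cfsg.Agent.OddHalf.NI3.Fr
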