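import Mathlib
import Cfsg.Agent.OddHalf.NI.OmegaRows
import Cfsg.Agent.OddHalf.NI.OmegaPlusRow
import Cfsg.Agent.OddHalf.NI3.Fr.Omega

/-!
# (T'_3): the orthogonal rows

`frame_odd`, `frame_plus`, `frame_minus` : the rows `PΩ_{2m+1}(3)`, `PΩ⁺_{2m}(3)`, `PΩ⁻_{2m+2}(3)`, from the sheets of
helper448 (`NI/OmegaRows.lean`) and helper601 (`NI/OmegaPlusRow.lean`).
-/

set_option autoImplicit false
set_option linter.unusedSectionVars false

namespace Cfsg.Agent.OddHalf.NI3.Fr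

open CoxeterSystem Cfsg.Agent.ChevalleyStructure.CoxeterGeom Cfsg.Agent.Tits.Roots Cfsg.Agent.Tits.Core
  Cfsg.Agent.Tits.RootComb Cfsg.Agent.Nodes.Comb Cfsg.Agent.Nodes.Reps Cfsg.Agent.Nodes.BNOf
  Cfsg.Agent.Nodes.RGDLib Cfsg.Agent.Nodes.Chart
open QuadraticMap
open Matrix (SpecialLinearGroup)
open Cfsg.Agent.LieClassical Cfsg.Agent.LieClassical.OrthCore Cfsg.Agent.LieClassical.OrthTrans
open Cfsg.Agent.LieClassical.OrthSimple Cfsg.Agent.LieClassical.OrthFinite Cfsg.Agent.LieClassical.OrthForms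
open Cfsg.Agent.TitsThree Cfsg.Agent.TitsThree.Siegel Cfsg.Agent.TitsThree.SiegelGen
  Cfsg.Agent.TitsThree.WittFrame Cfsg.Agent.TitsThree.WittWeyl Cfsg.Agent.TitsThree.WBridge
  Cfsg.Agent.TitsThree.KSideO
open Cfsg.Agent.Nodes
open Cfsg.Agent.Nodes.WittRoot (Amb XG ZG PG PG_ne PG_self Mono XG_swap rg rg_eq)
open Cfsg.Agent.Nodes.WittRGD (Tor mem_Tor nn nn_mem)
open Cfsg.Agent.Nodes.TypeC Cfsg.Agent.Nodes.TypeCForm Cfsg.Agent.Nodes.KindBC
open Cfsg.Agent.OddHalf.LongSL.OrthPhi Cfsg.Agent.OddHalf.LongSL.Orth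
open Cfsg.Agent.OddHalf.NI Cfsg.Agent.OddHalf.NI.OmegaSheet Cfsg.Agent.OddHalf.NI.OmegaNodes
  Cfsg.Agent.OddHalf.NI.OmegaLast Cfsg.Agent.OddHalf.NI.OmegaTorus Cfsg.Agent.OddHalf.NI.OmegaRows

universe u

/-- **(T'_3) for `PΩ_{2m+1}(3)`.** -/
theorem frame_odd (F : Type) [Field F] [Fintype F] (m : ℕ) (ho : Odd (Fintype.card F)) (h3 : Fintype.card F = 3)
    (hm : 3 ≤ m) (N : Type u) [Group N] [Finite N] (hN : commutator N = ⊤) (hZ : IsPGroup 2 ↥(Subgroup.center N))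
    (e : Nonempty (N ⧸ Subgroup.center N ≃* Cfsg.POmega F (Cfsg.quadFormOdd m F))) (z : N)
    (hz : z ∈ Subgroup.center N) (h8 : Even8 z) : Nonempty (Frame3 N z) := by
  obtain ⟨p, hp, hc, hp2⟩ := OmegaRows.exists_char ho
  have : Fact p.Prime := ⟨hp⟩
  obtain ⟨e⟩ := e
  rw [← coe_oddForm] at e
  have h2 : (2 : F) ≠ 0 := two_ne hp2
  have hG : Good (oddForm m F) := by
    apply good_of_finite (nondeg_oddForm m F h2)
    rw [Module.finrank_fintype_fun_eq_card, Fintype.card_sum, Fintype.card_sum, Fintype.card_fin,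
      Fintype.card_unit]
    omega
  have hA := RGDOrth.amb (wodd m F) h2
  obtain ⟨p0, hp0⟩ : ∃ p0 : (toFrame (wodd m F)).Adm, p0.c ≠ 0 := by
    refine ⟨(embOdd m F).ngt ⟨1, -1 ^ 2, rfl⟩, ?_⟩
    change (1 : F)⁻¹ * (-1 ^ 2) ≠ 0
    simp
  have hm0 : 0 < m := by omega
  refine Fr.frame_POmega hG hp (fun h => by rw [h] at hp2; exact absurd hp2 (by decide)) h2 ho h3
    (OmegaNodes.sheet (nodeO m) hA hp2 hm hp0 (scalO m hm0) trivial) ?_ hN hZ e hz h8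
  intro _ t ht
  exact k2_of (nodeO m) hA hG hm0 (scalO m hm0) (fun _ => trivial) t ht

/-- **(T'_3) for `PΩ⁻_{2m+2}(3)`.** -/
theorem frame_minus (F : Type) [Field F] [Fintype F] (m : ℕ) (a b : F) (ho : Odd (Fintype.card F))
    (h3 : Fintype.card F = 3) (hm : 3 ≤ m)
    (hab : ∀ z₁ z₂ : F, z₁ ^ 2 + a * z₁ * z₂ + b * z₂ ^ 2 = 0 → z₁ = 0 ∧ z₂ = 0)
    (N : Type u) [Group N] [Finite N] (hN : commutator N = ⊤) (hZ : IsPGroup 2 ↥(Subgroup.center N))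
    (e : Nonempty (N ⧸ Subgroup.center N ≃* Cfsg.POmega F (Cfsg.quadFormMinus m F a b))) (z : N)
    (hz : z ∈ Subgroup.center N) (h8 : Even8 z) : Nonempty (Frame3 N z) := by
  obtain ⟨p, hp, hc, hp2⟩ := OmegaRows.exists_char ho
  have : Fact p.Prime := ⟨hp⟩
  obtain ⟨e⟩ := e
  rw [← coe_minusForm] at e
  have h2 : (2 : F) ≠ 0 := two_ne hp2
  have hcard : Fintype.card ((Fin m ⊕ Fin m) ⊕ Fin 2) = 2 * m + 2 := by
    rw [Fintype.card_sum, Fintype.card_sum, Fintype.card_fin, Fintype.card_fin]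
    omega
  have hG : Good (minusForm m F a b) := by
    apply good_of_finite (nondeg_minusForm m F a b hab)
    rw [Module.finrank_fintype_fun_eq_card, hcard]
    omega
  have hA := RGDOrth.amb (wminus m F a b hab) h2
  obtain ⟨p0, hp0⟩ : ∃ p0 : (toFrame (wminus m F a b hab)).Adm, p0.c ≠ 0 := by
    refine ⟨(embMinus m F a b hab).ngt ⟨(1, 0), -StdData.nf a b (1, 0), rfl⟩, ?_⟩
    change (1 : F)⁻¹ * (-StdData.nf a b (1, 0)) ≠ 0
    simp [StdData.nf]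
  have hm0 : 0 < m := by omega
  refine Fr.frame_POmega hG hp (fun h => by rw [h] at hp2; exact absurd hp2 (by decide)) h2 ho h3
    (OmegaNodes.sheet (nodeM m a b hab) hA hp2 hm hp0 (scalM m a b hm0) (Or.inl rfl)) ?_ hN hZ e hz h8
  intro h4 t ht
  rw [hcard] at h4
  have hmo : Odd m := by
    rcases Nat.even_or_odd m with h | h
    · exfalso
      obtain ⟨k, hk⟩ := h
      omega
    · exact h
  exact k2_of (nodeM m a b hab) hA hG hm0 (scalM m a b hm0) (fun _ => Or.inr hmo) t ht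

/-- **(T'_3) for `PΩ⁺_{2m}(3)`.** -/
theorem frame_plus (F : Type) [Field F] [Fintype F] (m : ℕ) (ho : Odd (Fintype.card F)) (hc : Fintype.card F = 3)
    (hm : 4 ≤ m) (N : Type u) [Group N] [Finite N] (hN : commutator N = ⊤) (hZ : IsPGroup 2 ↥(Subgroup.center N))
    (e : Nonempty (N ⧸ Subgroup.center N ≃* Cfsg.POmega F (Cfsg.quadFormPlus m F))) (z : N)
    (hz : z ∈ Subgroup.center N) (h8 : Even8 z) : Nonempty (Frame3 N z) := by
  obtain ⟨p, hp, hpc, hpo⟩ := OmegaRows.exists_char ho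
  have : Fact p.Prime := ⟨hp⟩
  obtain ⟨e⟩ := e
  have hp2 : p ≠ 2 := by rintro rfl; exact absurd hpo (by decide)
  have h2 : (2 : F) ≠ 0 := LongSL.Orth.two_ne hpo
  obtain ⟨n, rfl⟩ : ∃ n, m = n + 2 := ⟨m - 2, by omega⟩
  rw [← coe_plusForm] at e
  refine Fr.frame_POmega (OmegaPlusRow.good_plus F (by omega)) hp hp2 h2 ho hc
    (OmegaPlusRow.sheet F hpo (n := n) (by omega)) ?_ hN hZ e hz h8
  intro h4 t ht
  refine OmegaPlus.k2 (RGDOrth.wplus (n + 2) F) (OmegaPlusRow.good_plus F (by omega)) ?_ ht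
  rw [Fintype.card_sum, Fintype.card_fin] at h4
  rw [Nat.even_iff]
  omega

end Cfsg.Agent.OddHalf.NI3.Fr
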