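import Mathlib
import Cfsg.Agent.OddHalf.NI.FrameFactOf
import Cfsg.Agent.OddHalf.NI3.Card81
import Cfsg.Agent.OddHalf.NI3.Fr.Lin
import Cfsg.Agent.OddHalf.NI3.Fr.Exc
import Cfsg.Agent.OddHalf.NI3.Fr.OmRows

/-!
# (T'_3): assembly

`frameFact3 : FrameFact3` : an even central involution of a finite quasisimple group `N` with centre a `2`-group and
`N / Z(N)` of Lie type of rank at least two over the field with three elements lies in a frame with members `SL₂(3)`.
-/

set_option autoImplicit false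

namespace Cfsg.Agent.OddHalf.NI3.Fr

open Subgroup Cfsg Cfsg.Agent.OddHalf.NI
open SUOdd (Clo)
open FrameFactOf (ne_one_of closed_iff_clo)

universe u

/-- **(T'_3).** -/
theorem frameFact3 : FrameFact3.{u} := by
  intro N _ _ hq h2 hX z hz h8
  rcases hX with hX | hX | hX | hX | hX | hX | hX | hX | hX | hX | hX | hX | hX
  · obtain ⟨F, _, _, n, hF, hn, ⟨e⟩⟩ := hX
    exact frame_psl hq h2 (by rw [hF]; decide) hF hn e hz h8
  · obtain ⟨F, _, _, m, hF, hm, ⟨e⟩⟩ := hX
    classical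
    have hodd : Odd (Fintype.card F) := by rw [hF]; decide
    obtain ⟨φ, hs, hk⟩ := CoverOf.exists_cover hq.1.commutator_eq_top h2
      (Cfsg.Agent.S0269.result m (by omega)) (SpClosed.closed2 hodd (by omega)) e
    exact frame_sp hodd hF hm φ hs hk hz (ne_one_of h8)
  · obtain ⟨F, _, _, n, hF, hn, ⟨e⟩⟩ := hX
    have hF' : Fintype.card F = 9 := by simpa using hF
    have hodd : Odd (Fintype.card F) := by rw [hF']; decide
    rcases Nat.eq_or_lt_of_le hn with rfl | hn4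
    · exact (Card81.false_of_noDouble hq.1.commutator_eq_top
        ((KFacts.MulOdd.UThree.noDouble_U33 hF').congr e.symm) hz h8.1).elim
    · have hev : ∀ k, 2 ≤ k → Clo.{u} (SU (2 * k) F 3) := fun k hk =>
        fun E _ _ f hE hf hc h2 => SUClosed.closed_SU hF (by decide) hk hE hf hc h2
      refine frame_psu hq h2 hF (by decide) rfl hn ((closed_iff_clo _).2 ?_) e hz h8
      rcases Nat.even_or_odd n with hn2 | hn2
      · obtain ⟨m, rfl⟩ : ∃ m, n = 2 * m := ⟨n / 2, by have := Nat.even_iff.1 hn2; omega⟩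
        exact hev m (by omega)
      · obtain ⟨k, rfl⟩ := hn2
        exact clo_succ3 hF hodd rfl (even_two_mul k) (by omega) (hev k (by omega))
  · obtain ⟨F, _, _, m, hF, hm, he⟩ := hX
    exact frame_odd F m (by rw [hF]; decide) hF hm N hq.1.commutator_eq_top h2 he z hz h8
  · obtain ⟨F, _, _, m, hF, hm, he⟩ := hX
    exact frame_plus F m (by rw [hF]; decide) hF hm N hq.1.commutator_eq_top h2 he z hz h8
  · obtain ⟨F, _, _, m, a, b, hF, hm, hab, he⟩ := hX
    exact frame_minus F (m - 1) a b (by rw [hF]; decide) hF (by omega) hab N hq.1.commutator_eq_top h2 he z hz h8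
  · obtain ⟨F, _, _, hF, ⟨e⟩⟩ := hX
    exact (ExcEnd.false_G2 (by rw [hF]; decide) hq h2 hz h8.1 e).elim
  · obtain ⟨F, _, _, hF, ⟨e⟩⟩ := hX
    exact (ExcEnd.false_F4 (by rw [hF]; decide) hq h2 hz h8.1 e).elim
  · obtain ⟨F, _, _, hF, ⟨e⟩⟩ := hX
    exact (ExcEnd.false_E6 (by rw [hF]; decide) hq h2 hz h8.1 e).elim
  · obtain ⟨F, _, _, hF, ⟨e⟩⟩ := hX
    exact frame_E7 (by rw [hF]; decide) hq h2 hz h8.1 hF e
  · obtain ⟨F, _, _, hF, ⟨e⟩⟩ := hX
    exact (ExcEnd.false_E8 (by rw [hF]; decide) hq h2 hz h8.1 e).elim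
  · obtain ⟨F, _, _, hF, ⟨e⟩⟩ := hX
    have h3 : IsPrimePow 3 := Nat.prime_three.isPrimePow
    exact (ExcTw.false_TwE6 h3 (by rw [hF]; decide) hq h2 hz h8.1 hF e).elim
  · obtain ⟨F, _, _, hF, ⟨e⟩⟩ := hX
    have h3 : IsPrimePow 3 := Nat.prime_three.isPrimePow
    exact (ExcTw.false_TwD4 h3 (by rw [hF]; decide) hq h2 hz h8.1 hF e).elim

end Cfsg.Agent.OddHalf.NI3.Fr
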